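import Mathlib

/-!
# Invertible modules up to a scalar, and exterior powers of quasi-free modules
-/

set_option autoImplicit false

universe u

open scoped TensorProduct

noncomputable section

namespace GrothLib.NormLine16

variable {A : Type u} [CommRing A]

/-- `p₀` generates `P` up to the scalar `C`, with coordinate `φ`. -/
def IsPre {P : Type*} [AddCommMonoid P] [Module A P] (φ : P →ₗ[A] A) (p₀ : P) (C : A) : Prop :=
  φ p₀ = C ∧ ∀ z, C • z = φ z • p₀

/-- `z` is a basis of `M` up to the scalar `C`, with coordinates `G`. -/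
def IsQuasi {M : Type*} [AddCommGroup M] [Module A M] {ι : Type*} [Fintype ι] [DecidableEq ι]
    (G : M →ₗ[A] (ι → A)) (z : ι → M) (C : A) : Prop :=
  (∀ r s, G (z r) s = if r = s then C else 0) ∧ ∀ w, ∑ r, G w r • z r = C • w

/-- The functional `v ↦ det (G v)` on the exterior power. -/
def wedgeDet {M : Type*} [AddCommGroup M] [Module A M] {ι : Type*} [Fintype ι] [DecidableEq ι] {N : ℕ}
    (e : Fin N ≃ ι) (G : M →ₗ[A] (ι → A)) : (⋀[A]^N M) →ₗ[A] A :=
  exteriorPower.alternatingMapLinearEquiv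
    ((Matrix.detRowAlternating.compLinearMap G).domDomCongr e.symm)

theorem wedgeDet_ιMulti {M : Type*} [AddCommGroup M] [Module A M] {ι : Type*} [Fintype ι] [DecidableEq ι]
    {N : ℕ} (e : Fin N ≃ ι) (G : M →ₗ[A] (ι → A)) (v : Fin N → M) :
    wedgeDet e G (exteriorPower.ιMulti A N v) = (Matrix.of fun r s => G (v (e.symm r)) s).det := by
  rw [wedgeDet, exteriorPower.alternatingMapLinearEquiv_apply_ιMulti]
  rfl

theorem alt_eq_det_smul {ι : Type*} [Fintype ι] [DecidableEq ι] {W : Type*} [AddCommGroup W] [Module A W]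
    (h : (ι → A) [⋀^ι]→ₗ[A] W) (Y : ι → ι → A) :
    h Y = (Matrix.of Y).det • h (fun r => Pi.single r (1 : A)) := by
  classical
  have key : h = (LinearMap.toSpanSingleton A W (h (fun r => Pi.single r (1 : A)))).compAlternatingMap
      Matrix.detRowAlternating := by
    refine Module.Basis.ext_alternating (Pi.basisFun A ι) fun v hv => ?_
    let σ : Equiv.Perm ι := Equiv.ofBijective v (Finite.injective_iff_bijective.1 hv)
    have hb : (fun i => (Pi.basisFun A ι) (v i)) = (fun r => Pi.single r (1 : A)) ∘ σ := by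
      funext i; simp [σ, Pi.basisFun_apply]
    have h1 : (Matrix.detRowAlternating : (ι → A) [⋀^ι]→ₗ[A] A) (fun r => Pi.single r (1 : A)) = (1 : A) := by
      have : (fun r => Pi.single r (1 : A)) = (1 : Matrix ι ι A) := by
        funext r s; simp [Matrix.one_apply, Pi.single_apply, eq_comm]
      rw [this]; exact Matrix.det_one
    rw [hb, AlternatingMap.map_perm, AlternatingMap.map_perm, LinearMap.compAlternatingMap_apply, h1,
      LinearMap.toSpanSingleton_apply, one_smul]
  exact DFunLike.congr_fun key Y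

/-- The top exterior power of a quasi-free module is generated up to a scalar. -/
theorem IsQuasi.isPre {M : Type*} [AddCommGroup M] [Module A M] {ι : Type*} [Fintype ι] [DecidableEq ι]
    {N : ℕ} (e : Fin N ≃ ι) {G : M →ₗ[A] (ι → A)} {z : ι → M} {C : A} (hq : IsQuasi G z C) :
    IsPre (wedgeDet e G) (exteriorPower.ιMulti A N (fun r => z (e r))) (C ^ N) := by
  refine ⟨?_, fun y => ?_⟩
  · rw [wedgeDet_ιMulti]
    have : (Matrix.of fun r s => G (z (e (e.symm r))) s) = Matrix.diagonal (fun _ => C) := by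
      ext r s; simp only [Matrix.of_apply, e.apply_symm_apply, hq.1, Matrix.diagonal_apply]
    rw [this, Matrix.det_diagonal, Finset.prod_const, Finset.card_univ, ← Fintype.card_congr e, Fintype.card_fin]
  · suffices h : (C ^ N) • (LinearMap.id : (⋀[A]^N M) →ₗ[A] ⋀[A]^N M) =
        (wedgeDet e G).smulRight (exteriorPower.ιMulti A N (fun r => z (e r))) from LinearMap.congr_fun h y
    refine exteriorPower.linearMap_ext (AlternatingMap.ext fun v => ?_)
    show C ^ N • exteriorPower.ιMulti A N v =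
      wedgeDet e G (exteriorPower.ιMulti A N v) • exteriorPower.ιMulti A N (fun r => z (e r))
    let h : (ι → A) [⋀^ι]→ₗ[A] ↥(⋀[A]^N M) :=
      ((exteriorPower.ιMulti A N).compLinearMap (Fintype.linearCombination A z)).domDomCongr e
    have h1 := alt_eq_det_smul h (fun r => G (v (e.symm r)))
    have h2 : h (fun r => G (v (e.symm r))) = C ^ N • exteriorPower.ιMulti A N v := by
      show exteriorPower.ιMulti A N (fun r => Fintype.linearCombination A z (G (v (e.symm (e r))))) = _
      have : (fun r => Fintype.linearCombination A z (G (v (e.symm (e r))))) = fun r => C • v r := by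
        funext r; rw [Fintype.linearCombination_apply, e.symm_apply_apply, hq.2]
      rw [this, AlternatingMap.map_smul_univ]; simp
    have h3 : h (fun r => Pi.single r (1 : A)) = exteriorPower.ιMulti A N (fun r => z (e r)) := by
      show exteriorPower.ιMulti A N (fun r => Fintype.linearCombination A z (Pi.single (e r) 1)) = _
      exact congrArg _ (funext fun r => by simp)
    rw [← h2, h1, h3, wedgeDet_ιMulti]

variable {P Q : Type*} [AddCommMonoid P] [Module A P] [AddCommMonoid Q] [Module A Q]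

/-- The product of two coordinates. -/
def preTensor (φ : P →ₗ[A] A) (ψ : Q →ₗ[A] A) : (P ⊗[A] Q) →ₗ[A] A :=
  (TensorProduct.lid A A).toLinearMap ∘ₗ TensorProduct.map φ ψ

theorem preTensor_tmul (φ : P →ₗ[A] A) (ψ : Q →ₗ[A] A) (a : P) (b : Q) :
    preTensor φ ψ (a ⊗ₜ b) = φ a * ψ b := rfl

theorem IsPre.tensor {φ : P →ₗ[A] A} {p₀ : P} {C : A} {ψ : Q →ₗ[A] A} {q₀ : Q} {D : A}
    (h₁ : IsPre φ p₀ C) (h₂ : IsPre ψ q₀ D) : IsPre (preTensor φ ψ) (p₀ ⊗ₜ[A] q₀) (C * D) := by
  refine ⟨by rw [preTensor_tmul, h₁.1, h₂.1], fun z => ?_⟩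
  induction z using TensorProduct.induction_on with
  | zero => simp
  | tmul a b =>
    rw [preTensor_tmul, ← TensorProduct.smul_tmul_smul, h₁.2, h₂.2, TensorProduct.smul_tmul_smul]
  | add a b ha hb => rw [smul_add, map_add, add_smul, ha, hb]

/-- The product of coordinates on a tensor power. -/
def prePower (l : ℕ) (φ : P →ₗ[A] A) : TensorPower A l P →ₗ[A] A :=
  PiTensorProduct.lift ((MultilinearMap.mkPiAlgebra A (Fin l) A).compLinearMap fun _ => φ)

theorem prePower_tprod (l : ℕ) (φ : P →ₗ[A] A) (v : Fin l → P) :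
    prePower l φ (PiTensorProduct.tprod A v) = ∏ i, φ (v i) := by
  simp [prePower]

theorem IsPre.power {φ : P →ₗ[A] A} {p₀ : P} {C : A} (l : ℕ) (h : IsPre φ p₀ C) :
    IsPre (prePower l φ) (PiTensorProduct.tprod A fun _ : Fin l => p₀) (C ^ l) := by
  refine ⟨by rw [prePower_tprod]; simp [h.1], fun z => ?_⟩
  suffices hh : (C ^ l) • (LinearMap.id : TensorPower A l P →ₗ[A] TensorPower A l P) =
      (prePower l φ).smulRight (PiTensorProduct.tprod A fun _ : Fin l => p₀) from LinearMap.congr_fun hh z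
  refine PiTensorProduct.ext (MultilinearMap.ext fun v => ?_)
  simp only [LinearMap.compMultilinearMap_apply, LinearMap.smul_apply, LinearMap.id_apply, LinearMap.smulRight_apply]
  have e1 : PiTensorProduct.tprod A (fun i => C • v i) = C ^ l • PiTensorProduct.tprod A v := by
    rw [MultilinearMap.map_smul_univ]; simp
  have e2 : (fun i => C • v i) = fun i => φ (v i) • p₀ := funext fun i => h.2 (v i)
  rw [prePower_tprod, ← e1, e2, MultilinearMap.map_smul_univ]

/-- Membership in a submodule is local at maximal ideals. -/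
theorem mem_of_forall_maximal (z : P) (N : Submodule A P)
    (H : ∀ m : Ideal A, m.IsMaximal → ∃ c ∉ m, c • z ∈ N) : z ∈ N := by
  have htop : N.comap (LinearMap.toSpanSingleton A P z) = ⊤ := by
    by_contra hne
    obtain ⟨m, hm, hle⟩ := Ideal.exists_le_maximal (N.comap (LinearMap.toSpanSingleton A P z)) hne
    obtain ⟨c, hc, hcz⟩ := H m hm
    exact hc (hle (by simpa using hcz))
  have : (1 : A) ∈ N.comap (LinearMap.toSpanSingleton A P z) := htop ▸ Submodule.mem_top
  simpa using this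

/-- Two modules matched by a family of pairs that is locally a graph are isomorphic. -/
theorem nonempty_linearEquiv_of_matched {X : Type*} (p : X → P) (q : X → Q)
    (H : ∀ m : Ideal A, m.IsMaximal → ∃ (x₀ : X) (φ : P →ₗ[A] A) (ψ : Q →ₗ[A] A) (C₁ C₂ : A),
      C₁ ∉ m ∧ C₂ ∉ m ∧ IsPre φ (p x₀) C₁ ∧ IsPre ψ (q x₀) C₂ ∧
        ∀ y, ∃ D ∉ m, D * φ (p y) = D * ψ (q y)) :
    Nonempty (P ≃ₗ[A] Q) := by
  letI : AddCommGroup P := Module.addCommMonoidToAddCommGroup A
  letI : AddCommGroup Q := Module.addCommMonoidToAddCommGroup A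
  let S : Submodule A (P × Q) := Submodule.span A (Set.range fun y => (p y, q y))
  have hgraph : ∀ m : Ideal A, m.IsMaximal → ∀ (φ : P →ₗ[A] A) (ψ : Q →ₗ[A] A),
      (∀ y, ∃ D ∉ m, D * φ (p y) = D * ψ (q y)) → ∀ s ∈ S, ∃ D ∉ m, D * φ s.1 = D * ψ s.2 := by
    intro m hm φ ψ hy s hs
    induction hs using Submodule.span_induction with
    | mem x hx => obtain ⟨y, rfl⟩ := hx; exact hy y
    | zero => exact ⟨1, fun h => hm.ne_top ((Ideal.eq_top_iff_one m).2 h), by simp⟩
    | add a b _ _ ha hb =>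
      obtain ⟨D, hD, e⟩ := ha
      obtain ⟨D', hD', e'⟩ := hb
      refine ⟨D * D', fun h => (hm.isPrime.mem_or_mem h).elim hD hD', ?_⟩
      simp only [Prod.fst_add, Prod.snd_add, map_add, mul_add]
      linear_combination D' * e + D * e'
    | smul r a _ ha =>
      obtain ⟨D, hD, e⟩ := ha
      refine ⟨D, hD, ?_⟩
      simp only [Prod.smul_fst, Prod.smul_snd, map_smul, smul_eq_mul]
      linear_combination r * e
  have hone : ∀ m : Ideal A, m.IsMaximal → ∀ {a b : A}, a ∉ m → b ∉ m → a * b ∉ m :=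
    fun m hm a b ha hb h => (hm.isPrime.mem_or_mem h).elim ha hb
  have hinj₁ : Function.Injective ((LinearMap.fst A P Q).comp S.subtype) := by
    rw [injective_iff_map_eq_zero]
    rintro ⟨⟨s₁, s₂⟩, hs⟩ (h : s₁ = 0)
    subst h
    suffices s₂ ∈ (⊥ : Submodule A Q) by
      rw [Submodule.mem_bot] at this; subst this; rfl
    refine mem_of_forall_maximal _ _ fun m hm => ?_
    obtain ⟨x₀, φ, ψ, C₁, C₂, hC₁, hC₂, hφ, hψ, hy⟩ := H m hm
    obtain ⟨D, hD, e⟩ := hgraph m hm φ ψ hy _ hs
    simp only [map_zero, mul_zero] at e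
    refine ⟨D * C₂, hone m hm hD hC₂, ?_⟩
    rw [mul_smul, hψ.2, ← mul_smul, ← e, zero_smul]
    exact zero_mem _
  have hinj₂ : Function.Injective ((LinearMap.snd A P Q).comp S.subtype) := by
    rw [injective_iff_map_eq_zero]
    rintro ⟨⟨s₁, s₂⟩, hs⟩ (h : s₂ = 0)
    subst h
    suffices s₁ ∈ (⊥ : Submodule A P) by
      rw [Submodule.mem_bot] at this; subst this; rfl
    refine mem_of_forall_maximal _ _ fun m hm => ?_
    obtain ⟨x₀, φ, ψ, C₁, C₂, hC₁, hC₂, hφ, hψ, hy⟩ := H m hm
    obtain ⟨D, hD, e⟩ := hgraph m hm φ ψ hy _ hs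
    simp only [map_zero, mul_zero] at e
    refine ⟨D * C₁, hone m hm hD hC₁, ?_⟩
    rw [mul_smul, hφ.2, ← mul_smul, e, zero_smul]
    exact zero_mem _
  have hmem : ∀ y, (p y, q y) ∈ S := fun y => Submodule.subset_span ⟨y, rfl⟩
  have hsurj : Function.Surjective ((LinearMap.fst A P Q).comp S.subtype) ∧
      Function.Surjective ((LinearMap.snd A P Q).comp S.subtype) := by
    simp only [← LinearMap.range_eq_top]
    constructor <;> refine eq_top_iff.2 fun z _ => mem_of_forall_maximal _ _ fun m hm => ?_ <;>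
      obtain ⟨x₀, φ, ψ, C₁, C₂, hC₁, hC₂, hφ, hψ, -⟩ := H m hm
    · exact ⟨C₁, hC₁, hφ.2 z ▸ Submodule.smul_mem _ _ ⟨⟨_, hmem x₀⟩, rfl⟩⟩
    · exact ⟨C₂, hC₂, hψ.2 z ▸ Submodule.smul_mem _ _ ⟨⟨_, hmem x₀⟩, rfl⟩⟩
  exact ⟨(LinearEquiv.ofBijective _ ⟨hinj₁, hsurj.1⟩).symm.trans (LinearEquiv.ofBijective _ ⟨hinj₂, hsurj.2⟩)⟩

end GrothLib.NormLine16
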