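import Mathlib
import Groth.Agent.Lib.NormLine16.Pre

/-!
# Quasi-bases over semilocal fibres and their matrices
-/

set_option autoImplicit false

universe u

open scoped TensorProduct

noncomputable section

namespace GrothLib.NormLine16

theorem exists_smul_mem_of_le {A : Type u} [CommRing A] {M : Type*} [AddCommGroup M] [Module A M]
    [Module.Finite A M] (m : Ideal A) [m.IsMaximal] (N : Submodule A M)
    (h : ∀ w, ∃ n ∈ N, w - n ∈ m • (⊤ : Submodule A M)) : ∃ c ∉ m, ∀ w, c • w ∈ N := by
  have hle : (⊤ : Submodule A (M ⧸ N)) ≤ m • ⊤ := by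
    rintro x -
    obtain ⟨w, rfl⟩ := N.mkQ_surjective x
    obtain ⟨n, hn, hd⟩ := h w
    have h1 : N.mkQ w = N.mkQ (w - n) := by
      rw [map_sub, (Submodule.Quotient.mk_eq_zero N).2 hn |> (fun e => (e : N.mkQ n = 0)), sub_zero]
    rw [h1]
    have h2 := Submodule.mem_map_of_mem (f := N.mkQ) hd
    rw [Submodule.map_smul''] at h2
    exact Submodule.smul_mono le_rfl le_top h2
  obtain ⟨r, hr, hr0⟩ := Submodule.exists_sub_one_mem_and_smul_eq_zero_of_fg_of_le_smul m
    (⊤ : Submodule A (M ⧸ N)) Module.Finite.fg_top hle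
  refine ⟨r, fun hm => ?_, fun w => (Submodule.Quotient.mk_eq_zero N).1 ?_⟩
  · exact Ideal.IsPrime.ne_top' ((Ideal.eq_top_iff_one m).2 (by simpa using sub_mem hm hr))
  · simpa using hr0 (N.mkQ w) Submodule.mem_top

variable {A B : Type u} [CommRing A] [CommRing B] [Algebra A B]

theorem mem_smul_top_of_mem_map (m : Ideal A) {W : Type*} [AddCommGroup W] [Module B W] [Module A W]
    [IsScalarTower A B W] (w : W) (hw : w ∈ m.map (algebraMap A B) • (⊤ : Submodule B W)) :
    w ∈ m • (⊤ : Submodule A W) := by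
  refine Submodule.smul_induction_on hw (fun b hb y _ => ?_) (fun a b ha hb => add_mem ha hb)
  have hb' : b ∈ m • (⊤ : Submodule A B) := by
    rw [Ideal.smul_top_eq_map, Submodule.restrictScalars_mem]; exact hb
  refine Submodule.smul_induction_on hb' (fun a ha b' _ => ?_) (fun a b ha hb => ?_)
  · rw [smul_assoc]; exact Submodule.smul_mem_smul ha Submodule.mem_top
  · rw [add_smul]; exact add_mem ha hb

/-- A finite projective module of constant rank over a finite algebra has a basis up to a scalar outside `m`. -/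
theorem exists_quasi [Module.Finite A B] (M : Type*) [AddCommGroup M] [Module B M] [Module A M]
    [IsScalarTower A B M] [Module.Finite B M] [Module.Projective B M] (k : ℕ)
    (hM : ∀ q : PrimeSpectrum B, Module.rankAtStalk M q = k) (m : Ideal A) [hm : m.IsMaximal] :
    ∃ (x : Fin k → M) (g : M →ₗ[B] (Fin k → B)) (c : A), c ∉ m ∧ IsQuasi g x (algebraMap A B c) := by
  classical
  haveI : Module.Finite A M := Module.Finite.trans B M
  let I : Ideal B := m.map (algebraMap A B)
  let := Ideal.Quotient.field m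
  haveI : IsScalarTower A (A ⧸ m) (B ⧸ I) := IsScalarTower.of_algebraMap_eq fun a => rfl
  haveI : Module.Finite (A ⧸ m) (B ⧸ I) := Module.Finite.of_restrictScalars_finite A _ _
  haveI : IsArtinianRing (B ⧸ I) := IsArtinianRing.of_finite (A ⧸ m) _
  obtain ⟨bas⟩ := Module.nonempty_basis_of_flat_of_finrank_eq (B ⧸ I) ((B ⧸ I) ⊗[B] M) k (fun P => by
    let := Ideal.Quotient.field P.asIdeal
    have h1 : Module.rankAtStalk ((B ⧸ I) ⊗[B] M) (⟨P.asIdeal, P.isMaximal.isPrime⟩ : PrimeSpectrum (B ⧸ I)) = k := by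
      rw [Module.rankAtStalk_baseChange, hM]
    rw [Module.rankAtStalk_eq] at h1
    rw [← h1, ← Module.finrank_baseChange (R := P.asIdeal.ResidueField) (S := (B ⧸ I) ⧸ P.asIdeal)]
    exact (TensorProduct.AlgebraTensorModule.cancelBaseChange (B ⧸ I) ((B ⧸ I) ⧸ P.asIdeal) P.asIdeal.ResidueField
      P.asIdeal.ResidueField ((B ⧸ I) ⊗[B] M)).finrank_eq)
  have hsurj : Function.Surjective (TensorProduct.mk B (B ⧸ I) M 1) :=
    TensorProduct.mk_surjective B M _ Ideal.Quotient.mk_surjective
  choose x hx using fun i => hsurj (bas i)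
  let f : (Fin k → B) →ₗ[B] M := Fintype.linearCombination B x
  have hfbar : ∀ v, (1 : B ⧸ I) ⊗ₜ[B] f v = ∑ i, Ideal.Quotient.mk I (v i) • bas i := fun v => by
    simp only [f, Fintype.linearCombination_apply, TensorProduct.tmul_sum, TensorProduct.tmul_smul, ← hx,
      TensorProduct.mk_apply]
    exact Finset.sum_congr rfl fun i _ => (algebraMap_smul (B ⧸ I) (v i) _).symm
  have hkerbar : ∀ v, f v = 0 → v ∈ I • (⊤ : Submodule B (Fin k → B)) := fun v hv => by
    have h0 := hfbar v
    rw [hv, TensorProduct.tmul_zero] at h0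
    have h1 := Fintype.linearIndependent_iff.1 bas.linearIndependent _ h0.symm
    rw [pi_eq_sum_univ' v]
    exact Submodule.sum_mem _ fun i _ => Submodule.smul_mem_smul (Ideal.Quotient.eq_zero_iff_mem.1 (h1 i)) Submodule.mem_top
  obtain ⟨c, hc, hcf⟩ := exists_smul_mem_of_le m ((LinearMap.range f).restrictScalars A) fun w => by
    choose v hv using fun i => Ideal.Quotient.mk_surjective (bas.repr ((1 : B ⧸ I) ⊗ₜ[B] w) i)
    refine ⟨f v, ⟨v, rfl⟩, mem_smul_top_of_mem_map (B := B) m _ ?_⟩
    have h0 : (1 : B ⧸ I) ⊗ₜ[B] (w - f v) = 0 := by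
      rw [TensorProduct.tmul_sub, hfbar v]
      simp only [hv]
      rw [bas.sum_repr, sub_self]
    have h1 := congrArg (TensorProduct.quotTensorEquivQuotSMul M I) h0
    rw [map_zero] at h1
    refine (Submodule.Quotient.mk_eq_zero _).1 ?_
    rw [← h1, ← (Ideal.Quotient.mk I).map_one, TensorProduct.quotTensorEquivQuotSMul_mk_tmul, one_smul]
  obtain ⟨g, hg⟩ := Module.projective_lifting_property f.rangeRestrict
    ((algebraMap A B c • (LinearMap.id : M →ₗ[B] M)).codRestrict (LinearMap.range f) fun w => by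
      simp only [LinearMap.smul_apply, LinearMap.id_apply, algebraMap_smul]; exact hcf w)
    (LinearMap.surjective_rangeRestrict f)
  have hfg : ∀ w, f (g w) = c • w := fun w => by
    have := congrArg Subtype.val (LinearMap.congr_fun hg w)
    simpa [algebraMap_smul] using this
  obtain ⟨c', hc', hgs⟩ := exists_smul_mem_of_le m ((LinearMap.range g).restrictScalars A) fun v => by
    have h1 : f (g (f v) - c • v) = 0 := by
      rw [map_sub, hfg, LinearMap.map_smul_of_tower, sub_self]
    have h2 := mem_smul_top_of_mem_map (B := B) m _ (hkerbar _ h1)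
    obtain ⟨d, hd⟩ := Ideal.Quotient.mk_surjective ((Ideal.Quotient.mk m c)⁻¹)
    refine ⟨g (d • f v), ⟨d • f v, rfl⟩, ?_⟩
    have h3 : d * c - 1 ∈ m := by
      rw [← Ideal.Quotient.eq_zero_iff_mem, map_sub, map_mul, hd, map_one,
        inv_mul_cancel₀ (fun h => hc (Ideal.Quotient.eq_zero_iff_mem.1 h)), sub_self]
    have h4 : v - g (d • f v) = -(d • (g (f v) - c • v)) - (d * c - 1) • v := by
      rw [LinearMap.map_smul_of_tower]; module
    rw [h4]
    exact sub_mem (neg_mem (Submodule.smul_mem _ _ h2)) (Submodule.smul_mem_smul h3 Submodule.mem_top)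
  have hker : ∀ v, f v = 0 → (c * c') • v = 0 := fun v hv => by
    obtain ⟨w, hw⟩ := hgs v
    have h1 : c • w = 0 := by
      rw [← hfg, hw, LinearMap.map_smul_of_tower, hv, smul_zero]
    rw [mul_smul, ← hw, ← LinearMap.map_smul_of_tower, h1, map_zero]
  refine ⟨x, algebraMap A B (c * c') • g, c * c' * c, ?_, fun r s => ?_, fun w => ?_⟩
  · exact fun h => (hm.isPrime.mem_or_mem h).elim (fun h => (hm.isPrime.mem_or_mem h).elim hc hc') hc
  · have h1 : (c * c') • (g (f (Pi.single r 1)) - c • (Pi.single r 1 : Fin k → B)) = 0 := hker _ (by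
      rw [map_sub, hfg, LinearMap.map_smul_of_tower, sub_self])
    have h2 : f (Pi.single r 1) = x r := by simp [f]
    rw [smul_sub, sub_eq_zero, h2, smul_smul] at h1
    rw [LinearMap.smul_apply, algebraMap_smul, h1, Pi.smul_apply, Pi.single_apply, Algebra.smul_def]
    simp [eq_comm]
  · have : ∀ v, ∑ i, v i • x i = f v := fun v => by simp [f, Fintype.linearCombination_apply]
    rw [this, LinearMap.smul_apply, map_smul, hfg, algebraMap_smul, algebraMap_smul, smul_smul]

variable {n : ℕ}

/-- The matrix of multiplication by `h` in a quasi-basis. -/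
def Xmat (G : B →ₗ[A] (Fin n → A)) (z : Fin n → B) (h : B) : Matrix (Fin n) (Fin n) A :=
  Matrix.of fun s t => G (h * z s) t

/-- The coordinate matrix of a tuple. -/
def Vmat (G : B →ₗ[A] (Fin n → A)) (b : Fin n → B) : Matrix (Fin n) (Fin n) A :=
  Matrix.of fun j t => G (b j) t

variable {G : B →ₗ[A] (Fin n → A)} {z : Fin n → B} {c : A} (hq : IsQuasi G z c)
include hq

theorem Vmat_mul (b : Fin n → B) (h : B) :
    Vmat G b * Xmat G z h = c • Vmat G (fun j => b j * h) := by
  ext j r
  simp only [Matrix.mul_apply, Matrix.smul_apply, Vmat, Xmat, Matrix.of_apply, smul_eq_mul]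
  have h1 : ∑ t, G (b j) t • (h * z t) = c • (b j * h) := by
    calc ∑ t, G (b j) t • (h * z t) = h * ∑ t, G (b j) t • z t := by
          rw [Finset.mul_sum]; exact Finset.sum_congr rfl fun t _ => (mul_smul_comm _ _ _).symm
      _ = c • (b j * h) := by rw [hq.2, mul_smul_comm, mul_comm]
  have h2 := congrFun (congrArg G h1) r
  simpa [map_sum, Finset.sum_apply] using h2

theorem det_Vmat_mul (b : Fin n → B) (h : B) :
    c ^ n * (Vmat G (fun j => b j * h)).det = (Vmat G b).det * (Xmat G z h).det := by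
  rw [← Matrix.det_mul, Vmat_mul hq, Matrix.det_smul, Fintype.card_fin]

theorem Xmat_mul (h h' : B) : Xmat G z h * Xmat G z h' = c • Xmat G z (h * h') := by
  have h1 := Vmat_mul hq (fun s => h * z s) h'
  have h2 : Vmat G (fun s => h * z s * h') = Xmat G z (h * h') := by
    ext s t; simp [Vmat, Xmat, mul_comm, mul_left_comm, mul_assoc]
  rw [← h2]; exact h1

theorem det_Xmat_mul (h h' : B) :
    c ^ n * (Xmat G z (h * h')).det = (Xmat G z h).det * (Xmat G z h').det := by
  rw [← Matrix.det_mul, Xmat_mul hq, Matrix.det_smul, Fintype.card_fin]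

/-- The determinant of a block matrix of multiplication maps. -/
theorem exists_det_comp_Xmat {k : ℕ} (H : Matrix (Fin k) (Fin k) B) :
    ∃ t : ℕ, c ^ t * (c ^ n * (Matrix.comp (Fin k) (Fin k) (Fin n) (Fin n) A (H.map (Xmat G z))).det) =
      c ^ t * (c ^ (n * k) * (Xmat G z H.det).det) := by
  let L := Localization.Away c
  let a : A →+* L := algebraMap A L
  let u : L := IsLocalization.Away.invSelf c
  have hu : a c * u = 1 := IsLocalization.Away.mul_invSelf c
  let fX : B →+* Matrix (Fin n) (Fin n) L :=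
    { toFun := fun h => u • (Xmat G z h).map a
      map_one' := by
        have : Xmat G z 1 = c • (1 : Matrix (Fin n) (Fin n) A) := by
          ext s t; simp [Xmat, hq.1, Matrix.one_apply]
        rw [this]
        ext s t
        simp only [Matrix.smul_apply, Matrix.map_apply, Matrix.one_apply, smul_eq_mul, map_mul]
        split_ifs <;> simp [mul_comm u, hu]
      map_mul' := fun h h' => by
        rw [Matrix.smul_mul, Matrix.mul_smul, ← Matrix.map_mul, Xmat_mul hq, smul_smul]
        ext s t
        simp only [Matrix.smul_apply, Matrix.map_apply, smul_eq_mul, map_mul]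
        linear_combination (-(u * a (Xmat G z (h * h') s t))) * hu
      map_zero' := by ext s t; simp [Xmat]
      map_add' := fun h h' => by ext s t; simp [Xmat, add_mul, mul_add] }
  have key := Matrix.det_det (M := H) fX
  have e1 : (fX H.det).det = u ^ n * a (Xmat G z H.det).det := by
    show (u • (Xmat G z H.det).map a).det = _
    rw [Matrix.det_smul, Fintype.card_fin, RingHom.map_det]; rfl
  have e2 : Matrix.comp (Fin k) (Fin k) (Fin n) (Fin n) L (H.map fX) =
      u • (Matrix.comp (Fin k) (Fin k) (Fin n) (Fin n) A (H.map (Xmat G z))).map a := by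
    ext ⟨i, s⟩ ⟨j, t⟩; rfl
  rw [e1, e2, Matrix.det_smul, Fintype.card_prod, Fintype.card_fin, Fintype.card_fin, ← RingHom.mapMatrix_apply,
    ← RingHom.map_det] at key
  have hp : ∀ i : ℕ, a (c ^ i) * u ^ i = 1 := fun i => by rw [map_pow, ← mul_pow, hu, one_pow]
  have h3 : a (c ^ n * (Matrix.comp (Fin k) (Fin k) (Fin n) (Fin n) A (H.map (Xmat G z))).det) =
      a (c ^ (n * k) * (Xmat G z H.det).det) := by
    rw [map_mul, map_mul]
    rw [mul_comm k n] at key
    linear_combination (-(a (c ^ n) * a (Matrix.comp (Fin k) (Fin k) (Fin n) (Fin n) A (H.map (Xmat G z))).det)) * hp (n * k)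
      + a (c ^ (n * k)) * a (Xmat G z H.det).det * hp n - a (c ^ (n * k)) * a (c ^ n) * key
  obtain ⟨⟨_, t, rfl⟩, ht⟩ := IsLocalization.exists_of_eq (M := Submonoid.powers c) h3
  exact ⟨t, ht⟩

end GrothLib.NormLine16
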